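import Mathlib.Data.Nat.Notation

/-!
# Columns of `ad b_i`, `i = 1, 2` (helper65, S5925). Generated.
-/

set_option autoImplicit false

namespace Cfsg.Agent.H65.E8L.AdDat

/-- columns of `ad b_1` -/
def tb0 : List (List (ℕ × ℕ)) :=
  [[(111, 1), (143, 2), (144, 2), (172, 1)], [(106, 1), (111, 1), (144, 2), (149, 1), (150, 2), (172, 2)],
   [(111, 2), (143, 2), (144, 1), (150, 1)],
   [(106, 1), (111, 2), (143, 2), (144, 1), (149, 1), (150, 2), (172, 1)],
   [(111, 1), (144, 2), (150, 1), (172, 2)], [], [], [], [], [], [], [], [(12, 1), (14, 1), (15, 2), (22, 1)],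
   [(13, 2), (14, 1), (15, 2)], [(12, 1), (14, 1), (16, 2), (17, 1)],
   [(13, 1), (15, 1), (16, 1), (17, 2), (24, 2)], [(14, 1), (29, 2)], [(15, 2), (17, 1)], [(18, 2), (34, 1)],
   [(19, 2), (35, 1)], [(20, 2), (36, 1)], [(21, 2), (37, 1)], [(22, 2), (23, 2), (24, 1)],
   [(22, 1), (23, 1), (29, 1)], [(24, 2), (29, 1)], [(30, 1), (34, 2)], [(31, 1), (35, 2)], [(32, 1), (36, 2)],
   [(33, 1), (37, 2)], [(23, 1), (29, 1)], [(30, 2), (44, 2)], [(31, 2), (45, 2)], [(32, 2), (46, 2)],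
   [(33, 2), (47, 2)], [(25, 2), (44, 2)], [(26, 2), (45, 2)], [(27, 2), (46, 2)], [(28, 2), (47, 2)],
   [(38, 1), (48, 2), (54, 1)], [(39, 1), (49, 2), (55, 1)], [(40, 1), (50, 2), (56, 1)],
   [(41, 1), (51, 2), (57, 1)], [(42, 1), (52, 2), (58, 1)], [(43, 1), (53, 2), (59, 1)], [(34, 1), (44, 2)],
   [(35, 1), (45, 2)], [(36, 1), (46, 2)], [(37, 1), (47, 2)], [(38, 1), (64, 1), (86, 2)],
   [(39, 1), (65, 1), (87, 2)], [(40, 1), (66, 1), (88, 2)], [(41, 1), (67, 1), (89, 2)],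
   [(42, 1), (68, 1), (90, 2)], [(43, 1), (69, 1), (91, 2)], [(54, 1), (64, 1)], [(55, 1), (65, 1)],
   [(56, 1), (66, 1)], [(57, 1), (67, 1)], [(58, 1), (68, 1)], [(59, 1), (69, 1)],
   [(60, 2), (70, 1), (74, 2), (96, 1)], [(61, 2), (71, 1), (75, 2), (97, 1)],
   [(62, 2), (72, 1), (76, 2), (98, 1)], [(63, 2), (73, 1), (77, 2), (99, 1)], [(48, 1)], [(49, 1)], [(50, 1)],
   [(51, 1)], [(52, 1)], [(53, 1)], [(70, 1), (79, 2), (101, 1)], [(71, 1), (80, 2), (102, 1)],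
   [(72, 1), (81, 2), (103, 1)], [(73, 1), (82, 2), (104, 1)], [(60, 2), (74, 2), (79, 2)],
   [(61, 2), (75, 2), (80, 2)], [(62, 2), (76, 2), (81, 2)], [(63, 2), (77, 2), (82, 2)],
   [(83, 2), (84, 1), (106, 2)], [(74, 1), (79, 1), (118, 2)], [(75, 1), (80, 1), (119, 2)],
   [(76, 1), (81, 1), (120, 2)], [(77, 1), (82, 1), (121, 2)],
   [(0, 2), (2, 2), (3, 2), (78, 1), (83, 2), (85, 1)], [(85, 1), (138, 2)], [(83, 1), (85, 2), (144, 2)],
   [(86, 1)], [(87, 1)], [(88, 1)], [(89, 1)], [(90, 1)], [(91, 1)], [(92, 2), (101, 1), (107, 2)],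
   [(93, 2), (102, 1), (108, 2)], [(94, 2), (103, 1), (109, 2)], [(95, 2), (104, 1), (110, 2)],
   [(101, 1), (107, 2)], [(102, 1), (108, 2)], [(103, 1), (109, 2)], [(104, 1), (110, 2)],
   [(100, 1), (105, 1), (106, 2), (111, 2), (112, 1)], [(92, 1), (101, 2), (113, 1), (118, 1)],
   [(93, 1), (102, 2), (114, 1), (119, 1)], [(94, 1), (103, 2), (115, 1), (120, 1)],
   [(95, 1), (104, 2), (116, 1), (121, 1)], [(1, 1), (3, 1), (117, 1)], [(1, 1), (100, 2), (106, 1), (138, 1)],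
   [(96, 1), (107, 2), (113, 2), (118, 2)], [(97, 1), (108, 2), (114, 2), (119, 2)],
   [(98, 1), (109, 2), (115, 2), (120, 2)], [(99, 1), (110, 2), (116, 2), (121, 2)],
   [(2, 2), (3, 2), (100, 1), (117, 2), (170, 1)], [(2, 2), (112, 1), (138, 2)], [(101, 2), (113, 1)],
   [(102, 2), (114, 1)], [(103, 2), (115, 1)], [(104, 2), (116, 1)],
   [(105, 2), (117, 2), (143, 1), (149, 2), (171, 1)], [(107, 2), (118, 2)], [(108, 2), (119, 2)],
   [(109, 2), (120, 2)], [(110, 2), (121, 2)], [], [], [], [], [], [], [], [], [], [], [], [],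
   [(134, 1), (145, 1), (151, 2), (173, 1)], [(135, 1), (146, 1), (152, 2), (174, 1)],
   [(136, 1), (147, 1), (153, 2), (175, 1)], [(137, 1), (148, 1), (154, 2), (176, 1)],
   [(112, 2), (138, 1), (144, 1), (150, 2)], [(139, 2), (145, 1), (151, 2)], [(140, 2), (146, 1), (152, 2)],
   [(141, 2), (147, 1), (153, 2)], [(142, 2), (148, 1), (154, 2)], [(117, 1), (143, 2), (155, 2)],
   [(2, 1), (3, 1), (155, 1)], [(134, 1), (145, 1), (156, 1), (160, 1)],
   [(135, 1), (146, 1), (157, 1), (161, 1)], [(136, 1), (147, 1), (158, 1), (162, 1)],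
   [(137, 1), (148, 1), (159, 1), (163, 1)], [(1, 1), (149, 2), (155, 1), (177, 1)], [(138, 1), (155, 2)],
   [(139, 1), (151, 1), (156, 2), (160, 2), (182, 2)], [(140, 1), (152, 1), (157, 2), (161, 2), (183, 2)],
   [(141, 1), (153, 1), (158, 2), (162, 2), (184, 2)], [(142, 1), (154, 1), (159, 2), (163, 2), (185, 2)],
   [(144, 2), (149, 1), (155, 2)], [(145, 2), (192, 2)], [(146, 2), (193, 2)], [(147, 2), (194, 2)],
   [(148, 2), (195, 2)], [(151, 2), (160, 1)], [(152, 2), (161, 1)], [(153, 2), (162, 1)], [(154, 2), (163, 1)],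
   [(164, 2), (202, 1)], [(165, 2), (203, 1)], [(166, 2), (204, 1)], [(167, 2), (205, 1)], [(168, 2), (206, 1)],
   [(169, 2), (207, 1)], [(170, 1), (171, 2), (172, 2)], [(177, 2)], [(170, 2), (172, 1), (177, 1)],
   [(173, 2), (178, 1), (182, 1)], [(174, 2), (179, 1), (183, 1)], [(175, 2), (180, 1), (184, 1)],
   [(176, 2), (181, 1), (185, 1)], [(172, 2)], [(173, 2), (178, 1), (192, 1)], [(174, 2), (179, 1), (193, 1)],
   [(175, 2), (180, 1), (194, 1)], [(176, 2), (181, 1), (195, 1)], [(182, 2), (192, 2)], [(183, 2), (193, 2)],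
   [(184, 2), (194, 2)], [(185, 2), (195, 2)], [(196, 2), (202, 2)], [(197, 2), (203, 2)], [(198, 2), (204, 2)],
   [(199, 2), (205, 2)], [(200, 2), (206, 2)], [(201, 2), (207, 2)], [(178, 1), (192, 1)], [(179, 1), (193, 1)],
   [(180, 1), (194, 1)], [(181, 1), (195, 1)], [(196, 2), (212, 2)], [(197, 2), (213, 2)], [(198, 2), (214, 2)],
   [(199, 2), (215, 2)], [(200, 2), (216, 2)], [(201, 2), (217, 2)], [(186, 2), (212, 1)], [(187, 2), (213, 1)],
   [(188, 2), (214, 1)], [(189, 2), (215, 1)], [(190, 2), (216, 1)], [(191, 2), (217, 1)],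
   [(208, 1), (218, 1), (222, 1)], [(209, 1), (219, 1), (223, 1)], [(210, 1), (220, 1), (224, 1)],
   [(211, 1), (221, 1), (225, 1)], [(202, 2), (212, 2)], [(203, 2), (213, 2)], [(204, 2), (214, 2)],
   [(205, 2), (215, 2)], [(206, 2), (216, 2)], [(207, 2), (217, 2)], [(208, 2), (227, 1), (234, 2)],
   [(209, 2), (228, 1), (235, 2)], [(210, 2), (229, 1), (236, 2)], [(211, 2), (230, 1), (237, 2)],
   [(222, 1), (227, 2)], [(223, 1), (228, 2)], [(224, 1), (229, 2)], [(225, 1), (230, 2)],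
   [(226, 2), (231, 2), (232, 2), (239, 1)], [(218, 1)], [(219, 1)], [(220, 1)], [(221, 1)],
   [(231, 1), (233, 2), (240, 1)], [(226, 2), (232, 2), (233, 1)], [(232, 2), (233, 1), (243, 2)], [(234, 1)],
   [(235, 1)], [(236, 1)], [(237, 1)], [(238, 2), (240, 1), (241, 2)], [(240, 2), (241, 1)],
   [(238, 1), (240, 2), (242, 1), (243, 1)], [(239, 2), (241, 2), (242, 2), (243, 2)], [(240, 2), (242, 1)],
   [(241, 2), (243, 2)], [], [], [], []]

/-- columns of `ad b_2` -/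
def tb1 : List (List (ℕ × ℕ)) :=
  [[(100, 1), (143, 2), (170, 2), (172, 1), (177, 2)],
   [(100, 2), (106, 1), (117, 1), (138, 2), (149, 1), (150, 1), (172, 2), (177, 2)],
   [(100, 2), (117, 1), (138, 2), (143, 2), (150, 2), (170, 2)],
   [(106, 1), (117, 1), (138, 2), (143, 2), (149, 1), (150, 1), (172, 1)],
   [(100, 1), (117, 1), (138, 2), (150, 2), (172, 2), (177, 1)], [], [], [], [], [], [], [],
   [(13, 1), (15, 1), (22, 1), (23, 1)], [(12, 1), (13, 1), (14, 1), (15, 2), (24, 1)],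
   [(14, 1), (16, 2), (17, 2), (22, 1), (29, 1)], [(13, 1), (15, 1), (16, 1), (24, 2)],
   [(12, 2), (14, 1), (16, 1), (17, 1), (23, 1), (29, 2)], [(13, 2), (16, 1), (17, 2), (24, 1)],
   [(18, 2), (25, 1), (34, 1), (44, 1)], [(19, 2), (26, 1), (35, 1), (45, 1)],
   [(20, 2), (27, 1), (36, 1), (46, 1)], [(21, 2), (28, 1), (37, 1), (47, 1)], [(22, 1), (23, 2), (24, 2)],
   [(22, 1), (23, 1), (24, 1)], [(23, 1), (24, 2), (29, 1)], [(25, 2), (30, 1)], [(26, 2), (31, 1)],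
   [(27, 2), (32, 1)], [(28, 2), (33, 1)], [(22, 1), (29, 2)], [(30, 2), (34, 1), (44, 1)],
   [(31, 2), (35, 1), (45, 1)], [(32, 2), (36, 1), (46, 1)], [(33, 2), (37, 1), (47, 1)], [(30, 1), (44, 2)],
   [(31, 1), (45, 2)], [(32, 1), (46, 2)], [(33, 1), (47, 2)], [(48, 2), (54, 2), (86, 1)],
   [(49, 2), (55, 2), (87, 1)], [(50, 2), (56, 2), (88, 1)], [(51, 2), (57, 2), (89, 1)],
   [(52, 2), (58, 2), (90, 1)], [(53, 2), (59, 2), (91, 1)], [(25, 1), (34, 1)], [(26, 1), (35, 1)],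
   [(27, 1), (36, 1)], [(28, 1), (37, 1)], [(38, 1), (54, 1), (86, 2)], [(39, 1), (55, 1), (87, 2)],
   [(40, 1), (56, 1), (88, 2)], [(41, 1), (57, 1), (89, 2)], [(42, 1), (58, 1), (90, 2)],
   [(43, 1), (59, 1), (91, 2)], [(48, 1), (54, 1), (64, 1)], [(49, 1), (55, 1), (65, 1)],
   [(50, 1), (56, 1), (66, 1)], [(51, 1), (57, 1), (67, 1)], [(52, 1), (58, 1), (68, 1)],
   [(53, 1), (59, 1), (69, 1)], [(60, 1), (70, 1), (96, 1), (107, 1)], [(61, 1), (71, 1), (97, 1), (108, 1)],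
   [(62, 1), (72, 1), (98, 1), (109, 1)], [(63, 1), (73, 1), (99, 1), (110, 1)], [(38, 1), (64, 1), (86, 2)],
   [(39, 1), (65, 1), (87, 2)], [(40, 1), (66, 1), (88, 2)], [(41, 1), (67, 1), (89, 2)],
   [(42, 1), (68, 1), (90, 2)], [(43, 1), (69, 1), (91, 2)],
   [(70, 1), (74, 1), (79, 1), (92, 2), (101, 1), (113, 2)],
   [(71, 1), (75, 1), (80, 1), (93, 2), (102, 1), (114, 2)],
   [(72, 1), (76, 1), (81, 1), (94, 2), (103, 1), (115, 2)],
   [(73, 1), (77, 1), (82, 1), (95, 2), (104, 1), (116, 2)], [(70, 1), (74, 2), (79, 2), (96, 2), (118, 1)],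
   [(71, 1), (75, 2), (80, 2), (97, 2), (119, 1)], [(72, 1), (76, 2), (81, 2), (98, 2), (120, 1)],
   [(73, 1), (77, 2), (82, 2), (99, 2), (121, 1)],
   [(0, 1), (1, 1), (2, 1), (3, 1), (78, 2), (83, 2), (84, 2), (100, 2), (106, 2)],
   [(60, 1), (74, 1), (79, 2), (107, 2), (118, 2)], [(61, 1), (75, 1), (80, 2), (108, 2), (119, 2)],
   [(62, 1), (76, 1), (81, 2), (109, 2), (120, 2)], [(63, 1), (77, 1), (82, 2), (110, 2), (121, 2)],
   [(0, 2), (2, 2), (3, 2), (78, 1), (83, 2), (84, 1), (111, 2), (149, 1)],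
   [(83, 1), (85, 1), (112, 2), (138, 2), (150, 2)], [(0, 2), (78, 1), (144, 2), (155, 1)], [(86, 1)],
   [(87, 1)], [(88, 1)], [(89, 1)], [(90, 1)], [(91, 1)], [(92, 1), (96, 1), (107, 1)],
   [(93, 1), (97, 1), (108, 1)], [(94, 1), (98, 1), (109, 1)], [(95, 1), (99, 1), (110, 1)],
   [(92, 1), (96, 2), (101, 1), (107, 2)], [(93, 1), (97, 2), (102, 1), (108, 2)],
   [(94, 1), (98, 2), (103, 1), (109, 2)], [(95, 1), (99, 2), (104, 1), (110, 2)],
   [(100, 2), (105, 1), (111, 2), (112, 2), (170, 2)], [(101, 2), (113, 1), (118, 2)],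
   [(102, 2), (114, 1), (119, 2)], [(103, 2), (115, 1), (120, 2)], [(104, 2), (116, 1), (121, 2)],
   [(1, 2), (3, 2), (105, 2), (106, 1), (117, 1), (171, 1)], [(1, 1), (105, 1), (138, 2), (172, 2)],
   [(96, 1), (107, 2), (113, 2)], [(97, 1), (108, 2), (114, 2)], [(98, 1), (109, 2), (115, 2)],
   [(99, 1), (110, 2), (116, 2)], [(100, 1), (111, 2), (112, 1), (117, 2), (170, 1)], [(2, 2), (111, 1)],
   [(92, 1), (101, 2), (113, 2), (118, 2)], [(93, 1), (102, 2), (114, 2), (119, 2)],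
   [(94, 1), (103, 2), (115, 2), (120, 2)], [(95, 1), (104, 2), (116, 2), (121, 2)],
   [(3, 2), (105, 2), (117, 2), (149, 1), (171, 1)], [(96, 2), (113, 2)], [(97, 2), (114, 2)],
   [(98, 2), (115, 2)], [(99, 2), (116, 2)], [], [], [], [], [], [], [], [], [], [], [], [],
   [(139, 1), (151, 1), (173, 1), (178, 2)], [(140, 1), (152, 1), (174, 1), (179, 2)],
   [(141, 1), (153, 1), (175, 1), (180, 2)], [(142, 1), (154, 1), (176, 1), (181, 2)],
   [(3, 1), (138, 1), (144, 1), (150, 2)], [(134, 1), (139, 1), (145, 1), (151, 2), (182, 1)],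
   [(135, 1), (140, 1), (146, 1), (152, 2), (183, 1)], [(136, 1), (141, 1), (147, 1), (153, 2), (184, 1)],
   [(137, 1), (142, 1), (148, 1), (154, 2), (185, 1)], [(105, 2), (144, 2), (155, 1), (171, 1)],
   [(106, 1), (143, 2), (144, 1), (155, 1), (172, 1)], [(145, 1), (156, 1), (160, 2), (173, 1), (192, 2)],
   [(146, 1), (157, 1), (161, 2), (174, 1), (193, 2)], [(147, 1), (158, 1), (162, 2), (175, 1), (194, 2)],
   [(148, 1), (159, 1), (163, 2), (176, 1), (195, 2)], [(1, 1), (111, 2), (150, 2), (177, 1)],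
   [(112, 1), (138, 1), (149, 2), (150, 1), (155, 2)], [(139, 1), (151, 1), (156, 2), (182, 2)],
   [(140, 1), (152, 1), (157, 2), (183, 2)], [(141, 1), (153, 1), (158, 2), (184, 2)],
   [(142, 1), (154, 1), (159, 2), (185, 2)], [(1, 1), (2, 1), (3, 1), (144, 2), (155, 1), (177, 1)],
   [(134, 1), (145, 2), (156, 1), (160, 2), (178, 1), (192, 2)],
   [(135, 1), (146, 2), (157, 1), (161, 2), (179, 1), (193, 2)],
   [(136, 1), (147, 2), (158, 1), (162, 2), (180, 1), (194, 2)],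
   [(137, 1), (148, 2), (159, 1), (163, 2), (181, 1), (195, 2)], [(139, 2), (156, 2), (160, 2), (182, 1)],
   [(140, 2), (157, 2), (161, 2), (183, 1)], [(141, 2), (158, 2), (162, 2), (184, 1)],
   [(142, 2), (159, 2), (163, 2), (185, 1)], [(164, 2), (186, 1), (202, 1), (212, 2)],
   [(165, 2), (187, 1), (203, 1), (213, 2)], [(166, 2), (188, 1), (204, 1), (214, 2)],
   [(167, 2), (189, 1), (205, 1), (215, 2)], [(168, 2), (190, 1), (206, 1), (216, 2)],
   [(169, 2), (191, 1), (207, 1), (217, 2)], [(171, 2)], [(172, 2), (177, 1)], [(171, 2), (172, 1), (177, 1)],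
   [(173, 1), (178, 1), (182, 2)], [(174, 1), (179, 1), (183, 2)], [(175, 1), (180, 1), (184, 2)],
   [(176, 1), (181, 1), (185, 2)], [(170, 2), (172, 2), (177, 1)], [(173, 2), (178, 1), (182, 2)],
   [(174, 2), (179, 1), (183, 2)], [(175, 2), (180, 1), (184, 2)], [(176, 2), (181, 1), (185, 2)],
   [(178, 2), (182, 2), (192, 2)], [(179, 2), (183, 2), (193, 2)], [(180, 2), (184, 2), (194, 2)],
   [(181, 2), (185, 2), (195, 2)], [(186, 2), (196, 2)], [(187, 2), (197, 2)], [(188, 2), (198, 2)],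
   [(189, 2), (199, 2)], [(190, 2), (200, 2)], [(191, 2), (201, 2)], [(173, 2), (192, 2)], [(174, 2), (193, 2)],
   [(175, 2), (194, 2)], [(176, 2), (195, 2)], [(196, 2), (202, 2), (212, 1)], [(197, 2), (203, 2), (213, 1)],
   [(198, 2), (204, 2), (214, 1)], [(199, 2), (205, 2), (215, 1)], [(200, 2), (206, 2), (216, 1)],
   [(201, 2), (207, 2), (217, 1)], [(196, 2), (212, 1)], [(197, 2), (213, 1)], [(198, 2), (214, 1)],
   [(199, 2), (215, 1)], [(200, 2), (216, 1)], [(201, 2), (217, 1)], [(218, 1), (222, 2), (234, 2)],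
   [(219, 1), (223, 2), (235, 2)], [(220, 1), (224, 2), (236, 2)], [(221, 1), (225, 2), (237, 2)],
   [(186, 2), (202, 2)], [(187, 2), (203, 2)], [(188, 2), (204, 2)], [(189, 2), (205, 2)], [(190, 2), (206, 2)],
   [(191, 2), (207, 2)], [(208, 2), (222, 2), (234, 2)], [(209, 2), (223, 2), (235, 2)],
   [(210, 2), (224, 2), (236, 2)], [(211, 2), (225, 2), (237, 2)], [(218, 2), (222, 1), (227, 2)],
   [(219, 2), (223, 1), (228, 2)], [(220, 2), (224, 1), (229, 2)], [(221, 2), (225, 1), (230, 2)],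
   [(226, 1), (231, 2), (239, 1), (241, 2)], [(208, 2), (227, 1), (234, 2)], [(209, 2), (228, 1), (235, 2)],
   [(210, 2), (229, 1), (236, 2)], [(211, 2), (230, 1), (237, 2)],
   [(231, 1), (232, 2), (233, 1), (238, 2), (240, 1), (242, 2)],
   [(231, 2), (232, 2), (233, 1), (239, 2), (243, 2)], [(226, 2), (232, 2), (233, 2), (241, 2), (243, 2)],
   [(234, 1)], [(235, 1)], [(236, 1)], [(237, 1)], [(238, 1), (239, 2), (241, 1)],
   [(238, 2), (239, 2), (240, 2), (241, 1)], [(240, 2), (242, 1), (243, 2)], [(239, 2), (241, 2), (242, 2)],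
   [(238, 1), (240, 2), (242, 2), (243, 2)], [(239, 1), (242, 2)], [], [], [], []]

end Cfsg.Agent.H65.E8L.AdDat
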