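import Mathlib.Data.Nat.Notation

/-!
# Tables for the vectors fixed by `x₀, y₀` (helper65, S5925)

Generated. Codes: `k < 8` is `h_k`, `8 + s` is `e_s`.
* `tX`, `tY`: columns of `x₀` and (on `sl₅ + sl₅`) of `y₀`;
* `tR`: inverse of `x₀ - 1` outside `sl₅ + sl₅`;
* `t1`, `t2`, `t3`: `t1 (x₀ - 1) + t2 (y₀ - 1) = t3` on `sl₅ + sl₅`.
-/

set_option autoImplicit false

namespace Cfsg.Agent.H65.E8L.Dat

/-- the word of `x₀` -/
def wX : List (ℕ × ℕ) := [(121, 2), (236, 1), (123, 1), (114, 2), (120, 1), (2, 1), (238, 1), (1, 1), (3, 2)]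

/-- the word of `y₀` -/
def wY : List (ℕ × ℕ) := [(124, 1), (120, 2), (122, 2), (117, 1), (2, 2), (121, 1), (125, 1), (116, 2), (142, 1), (135, 2), (136, 1), (103, 2), (164, 2), (130, 1), (147, 1), (98, 2)]

/-- the codes of `sl₅ + sl₅` -/
def l0 : List ℕ := [0, 1, 2, 3, 4, 5, 6, 7, 8, 9, 10, 11, 78, 83, 84, 85, 100, 105, 106, 111, 112, 117, 122, 123, 124, 125, 126, 127, 128, 129, 130, 131, 132, 133, 138, 143, 144, 149, 150, 155, 170, 171, 172, 177, 244, 245, 246, 247]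

/-- columns of `x₀` -/
def tX : List (List (ℕ × ℕ)) :=
  [[(0, 1)], [(1, 1)], [(2, 1)], [(3, 1)],
   [(0, 1), (2, 2), (4, 2), (5, 2), (7, 1), (8, 2), (11, 2), (122, 1), (125, 2), (131, 2), (133, 2), (244, 2), (245, 1), (247, 1)],
   [(5, 2), (6, 1), (7, 1), (8, 1), (10, 1), (122, 2), (124, 1), (125, 1), (129, 2), (132, 1), (133, 1), (244, 2), (246, 2), (247, 2)],
   [(0, 2), (2, 1), (4, 2), (5, 2), (7, 1), (9, 1), (10, 1), (123, 2), (126, 1), (128, 2), (130, 1), (132, 1), (133, 1), (244, 2), (245, 2), (246, 1)],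
   [(5, 1), (6, 2), (7, 1), (9, 2), (10, 1), (11, 1), (122, 2), (123, 2), (125, 2), (127, 1), (130, 1), (131, 1), (132, 1), (133, 2)],
   [(6, 2), (7, 1), (8, 1), (9, 2), (10, 2), (125, 2), (126, 1), (127, 2), (128, 2), (129, 1), (130, 2)],
   [(6, 2), (9, 1), (10, 2), (11, 2), (126, 2), (128, 1), (129, 1), (130, 2), (131, 1), (132, 1), (133, 2)],
   [(0, 1), (2, 2), (4, 1), (5, 2), (6, 1), (7, 2), (10, 1), (11, 2), (129, 2), (130, 1), (131, 1), (132, 1), (133, 2), (245, 2), (246, 2), (247, 1)],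
   [(0, 2), (2, 1), (4, 2), (5, 1), (7, 2), (8, 1), (11, 1), (125, 2), (127, 2), (131, 2), (132, 2), (133, 1), (245, 1), (246, 1), (247, 2)],
   [(12, 1), (135, 2), (136, 2), (137, 1)], [(13, 1), (140, 2), (141, 2), (142, 1)],
   [(14, 1), (146, 2), (147, 2), (148, 1)], [(15, 1), (152, 2), (153, 2), (154, 1)],
   [(16, 1), (157, 1), (158, 1), (159, 2)], [(17, 1), (161, 2), (162, 2), (163, 1)],
   [(18, 1), (19, 2), (20, 2), (164, 1), (165, 1), (166, 2), (167, 2), (168, 2), (169, 1)],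
   [(18, 2), (19, 2), (21, 2), (164, 2), (165, 2), (166, 1), (167, 1), (168, 1), (169, 2)],
   [(18, 2), (19, 1), (20, 2), (21, 2), (164, 2), (165, 2), (166, 1)],
   [(18, 1), (19, 2), (20, 2), (21, 1), (164, 1), (165, 1), (166, 2), (167, 2), (169, 2)],
   [(22, 1), (174, 2), (175, 2), (176, 1)], [(23, 1), (179, 1), (180, 1), (181, 2)],
   [(24, 1), (183, 2), (184, 2), (185, 1)],
   [(25, 1), (26, 2), (27, 2), (186, 1), (187, 1), (188, 2), (189, 2), (190, 2), (191, 1)],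
   [(25, 2), (26, 2), (28, 2), (186, 2), (187, 2), (188, 1), (189, 1), (190, 1), (191, 2)],
   [(25, 2), (26, 1), (27, 2), (28, 2), (186, 2), (187, 2), (188, 1)],
   [(25, 1), (26, 2), (27, 2), (28, 1), (186, 1), (187, 1), (188, 2), (189, 2), (191, 2)],
   [(29, 1), (193, 1), (194, 1), (195, 2)],
   [(30, 1), (31, 2), (32, 2), (196, 2), (197, 2), (198, 1), (199, 1), (200, 1), (201, 2)],
   [(30, 2), (31, 2), (33, 2), (196, 1), (197, 1), (198, 2), (199, 2), (200, 2), (201, 1)],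
   [(30, 2), (31, 1), (32, 2), (33, 2), (196, 1), (197, 1), (198, 2)],
   [(30, 1), (31, 2), (32, 2), (33, 1), (196, 2), (197, 2), (198, 1), (199, 1), (201, 1)],
   [(34, 1), (35, 2), (36, 2), (202, 1), (203, 1), (204, 2), (205, 2), (206, 2), (207, 1)],
   [(34, 2), (35, 2), (37, 2), (202, 2), (203, 2), (204, 1), (205, 1), (206, 1), (207, 2)],
   [(34, 2), (35, 1), (36, 2), (37, 2), (202, 2), (203, 2), (204, 1)],
   [(34, 1), (35, 2), (36, 2), (37, 1), (202, 1), (203, 1), (204, 2), (205, 2), (207, 2)],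
   [(38, 1), (39, 2), (40, 2), (41, 2), (42, 1), (43, 1)],
   [(39, 1), (40, 2), (41, 2), (42, 1), (43, 1), (208, 1), (209, 1), (210, 2)],
   [(40, 1), (42, 2), (43, 2), (209, 2), (210, 2), (211, 1)],
   [(38, 1), (39, 1), (41, 1), (42, 2), (43, 2), (208, 2), (209, 2), (210, 1)],
   [(38, 2), (39, 1), (41, 1), (42, 1), (43, 2), (209, 1), (210, 1), (211, 2)],
   [(39, 2), (41, 1), (43, 1), (208, 2), (210, 2)],
   [(44, 1), (45, 2), (46, 2), (212, 2), (213, 2), (214, 1), (215, 1), (216, 1), (217, 2)],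
   [(44, 2), (45, 2), (47, 2), (212, 1), (213, 1), (214, 2), (215, 2), (216, 2), (217, 1)],
   [(44, 2), (45, 1), (46, 2), (47, 2), (212, 1), (213, 1), (214, 2)],
   [(44, 1), (45, 2), (46, 2), (47, 1), (212, 2), (213, 2), (214, 1), (215, 1), (217, 1)],
   [(48, 1), (49, 2), (50, 2), (51, 2), (52, 1), (53, 1)],
   [(49, 1), (50, 2), (51, 2), (52, 1), (53, 1), (218, 2), (219, 2), (220, 1)],
   [(50, 1), (52, 2), (53, 2), (219, 1), (220, 1), (221, 2)],
   [(48, 1), (49, 1), (51, 1), (52, 2), (53, 2), (218, 1), (219, 1), (220, 2)],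
   [(48, 2), (49, 1), (51, 1), (52, 1), (53, 2), (219, 2), (220, 2), (221, 1)],
   [(49, 2), (51, 1), (53, 1), (218, 1), (220, 1)], [(54, 1), (55, 2), (56, 2), (57, 2), (58, 1), (59, 1)],
   [(55, 1), (56, 2), (57, 2), (58, 1), (59, 1), (222, 1), (223, 1), (224, 2)],
   [(56, 1), (58, 2), (59, 2), (223, 2), (224, 2), (225, 1)],
   [(54, 1), (55, 1), (57, 1), (58, 2), (59, 2), (222, 2), (223, 2), (224, 1)],
   [(54, 2), (55, 1), (57, 1), (58, 1), (59, 2), (223, 1), (224, 1), (225, 2)],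
   [(55, 2), (57, 1), (59, 1), (222, 2), (224, 2)], [(60, 1), (61, 2), (62, 2)], [(61, 1), (62, 2), (63, 2)],
   [(62, 1), (63, 2), (226, 2)], [(60, 1), (63, 1), (226, 1)],
   [(64, 1), (65, 2), (66, 2), (67, 2), (68, 1), (69, 1)],
   [(65, 1), (66, 2), (67, 2), (68, 1), (69, 1), (227, 2), (228, 2), (229, 1)],
   [(66, 1), (68, 2), (69, 2), (228, 1), (229, 1), (230, 2)],
   [(64, 1), (65, 1), (67, 1), (68, 2), (69, 2), (227, 1), (228, 1), (229, 2)],
   [(64, 2), (65, 1), (67, 1), (68, 1), (69, 2), (228, 2), (229, 2), (230, 1)],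
   [(65, 2), (67, 1), (69, 1), (227, 1), (229, 1)], [(70, 1), (71, 2), (72, 2)], [(71, 1), (72, 2), (73, 2)],
   [(72, 1), (73, 2), (231, 1)], [(70, 1), (73, 1), (231, 2)], [(74, 1), (75, 2), (76, 2)],
   [(75, 1), (76, 2), (77, 2)], [(76, 1), (77, 2), (232, 2)], [(74, 1), (77, 1), (232, 1)], [(78, 1)],
   [(79, 1), (80, 2), (81, 2)], [(80, 1), (81, 2), (82, 2)], [(81, 1), (82, 2), (233, 1)],
   [(79, 1), (82, 1), (233, 2)], [(83, 1)], [(84, 1)], [(85, 1)],
   [(86, 1), (87, 2), (88, 2), (89, 2), (90, 1), (91, 1)],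
   [(87, 1), (88, 2), (89, 2), (90, 1), (91, 1), (234, 2), (235, 2), (236, 1)],
   [(88, 1), (90, 2), (91, 2), (235, 1), (236, 1), (237, 2)],
   [(86, 1), (87, 1), (89, 1), (90, 2), (91, 2), (234, 1), (235, 1), (236, 2)],
   [(86, 2), (87, 1), (89, 1), (90, 1), (91, 2), (235, 2), (236, 2), (237, 1)],
   [(87, 2), (89, 1), (91, 1), (234, 1), (236, 1)], [(92, 1), (93, 2), (94, 2)], [(93, 1), (94, 2), (95, 2)],
   [(94, 1), (95, 2), (238, 1)], [(92, 1), (95, 1), (238, 2)], [(96, 1), (97, 2), (98, 2)],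
   [(97, 1), (98, 2), (99, 2)], [(98, 1), (99, 2), (239, 2)], [(96, 1), (99, 1), (239, 1)], [(100, 1)],
   [(101, 1), (102, 2), (103, 2)], [(102, 1), (103, 2), (104, 2)], [(103, 1), (104, 2), (240, 1)],
   [(101, 1), (104, 1), (240, 2)], [(105, 1)], [(106, 1)], [(107, 1), (108, 2), (109, 2)],
   [(108, 1), (109, 2), (110, 2)], [(109, 1), (110, 2), (241, 1)], [(107, 1), (110, 1), (241, 2)], [(111, 1)],
   [(112, 1)], [(113, 1), (114, 2), (115, 2)], [(114, 1), (115, 2), (116, 2)], [(115, 1), (116, 2), (242, 1)],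
   [(113, 1), (116, 1), (242, 2)], [(117, 1)], [(118, 1), (119, 2), (120, 2)], [(119, 1), (120, 2), (121, 2)],
   [(120, 1), (121, 2), (243, 1)], [(118, 1), (121, 1), (243, 2)],
   [(6, 2), (7, 2), (8, 2), (9, 1), (10, 1), (122, 1), (123, 2), (124, 2), (125, 2), (126, 1), (128, 1), (130, 1)],
   [(5, 1), (9, 2), (10, 1), (11, 1), (123, 1), (124, 2), (126, 2), (128, 2), (130, 1), (131, 1), (133, 1)],
   [(0, 2), (2, 1), (4, 2), (5, 2), (6, 2), (7, 1), (10, 2), (11, 1), (124, 1), (130, 2), (131, 1), (133, 1), (244, 1), (245, 2), (247, 2)],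
   [(6, 1), (8, 1), (9, 2), (10, 2), (122, 1), (123, 2), (124, 2), (125, 1), (126, 2), (127, 2), (129, 1)],
   [(5, 1), (6, 2), (9, 1), (10, 2), (11, 2), (123, 1), (124, 2), (126, 1), (129, 1), (131, 2), (132, 1)],
   [(6, 1), (7, 2), (8, 1), (9, 2), (10, 2), (122, 2), (123, 1), (124, 1), (125, 1), (126, 2), (127, 1), (128, 1), (129, 2), (130, 1)],
   [(5, 2), (6, 1), (123, 2), (124, 1), (126, 2), (128, 1), (129, 2), (130, 2), (131, 1), (132, 2), (133, 2)],
   [(0, 1), (2, 2), (4, 1), (5, 1), (6, 1), (7, 2), (10, 1), (11, 2), (124, 2), (129, 1), (130, 2), (131, 2), (132, 2), (133, 1), (244, 2), (245, 1), (246, 1), (247, 2)],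
   [(5, 2), (124, 2), (129, 1), (130, 1), (131, 1), (132, 2), (133, 2), (244, 2), (245, 2), (246, 1), (247, 1)],
   [(0, 2), (2, 1), (4, 2), (6, 2), (7, 1), (8, 1), (11, 1), (122, 1), (125, 1), (127, 2), (131, 1), (132, 2), (244, 2), (245, 2), (246, 1)],
   [(0, 2), (2, 1), (4, 2), (5, 2), (6, 1), (8, 1), (11, 1), (122, 2), (125, 1), (127, 1), (131, 1), (132, 1), (133, 2), (244, 1), (245, 2), (246, 2), (247, 1)],
   [(5, 1), (6, 1), (7, 1), (122, 2), (125, 2), (127, 1), (131, 2), (132, 1), (133, 1), (244, 1), (245, 1), (246, 2), (247, 2)],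
   [(12, 2), (134, 1), (135, 2), (137, 2)], [(12, 1), (134, 1), (135, 1), (136, 2)],
   [(12, 1), (134, 2), (135, 1), (136, 1), (137, 2)], [(134, 2), (135, 2), (136, 1), (137, 1)], [(138, 1)],
   [(13, 2), (139, 1), (140, 2), (142, 2)], [(13, 1), (139, 1), (140, 1), (141, 2)],
   [(13, 1), (139, 2), (140, 1), (141, 1), (142, 2)], [(139, 2), (140, 2), (141, 1), (142, 1)], [(143, 1)],
   [(144, 1)], [(14, 2), (145, 1), (146, 2), (148, 2)], [(14, 1), (145, 1), (146, 1), (147, 2)],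
   [(14, 1), (145, 2), (146, 1), (147, 1), (148, 2)], [(145, 2), (146, 2), (147, 1), (148, 1)], [(149, 1)],
   [(150, 1)], [(15, 2), (151, 1), (152, 2), (154, 2)], [(15, 1), (151, 1), (152, 1), (153, 2)],
   [(15, 1), (151, 2), (152, 1), (153, 1), (154, 2)], [(151, 2), (152, 2), (153, 1), (154, 1)], [(155, 1)],
   [(16, 1), (156, 1), (157, 2), (159, 2)], [(16, 2), (156, 1), (157, 1), (158, 2)],
   [(16, 2), (156, 2), (157, 1), (158, 1), (159, 2)], [(156, 2), (157, 2), (158, 1), (159, 1)],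
   [(17, 2), (160, 1), (161, 2), (163, 2)], [(17, 1), (160, 1), (161, 1), (162, 2)],
   [(17, 1), (160, 2), (161, 1), (162, 1), (163, 2)], [(160, 2), (161, 2), (162, 1), (163, 1)],
   [(18, 1), (20, 1), (21, 2), (164, 2), (165, 2), (166, 1), (167, 1), (168, 1), (169, 2)],
   [(20, 2), (21, 1), (165, 1), (166, 1), (167, 2), (168, 2), (169, 1)],
   [(18, 1), (19, 2), (20, 2), (21, 1), (164, 1), (165, 1), (167, 2), (168, 1), (169, 1)],
   [(18, 1), (20, 2), (21, 1), (164, 2), (166, 2), (167, 2), (168, 2), (169, 1)],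
   [(18, 2), (19, 1), (20, 1), (21, 2), (166, 1), (168, 1), (169, 2)],
   [(18, 2), (19, 1), (20, 1), (21, 2), (164, 2), (166, 1), (167, 2), (169, 2)], [(170, 1)], [(171, 1)],
   [(172, 1)], [(22, 2), (173, 1), (174, 2), (176, 2)], [(22, 1), (173, 1), (174, 1), (175, 2)],
   [(22, 1), (173, 2), (174, 1), (175, 1), (176, 2)], [(173, 2), (174, 2), (175, 1), (176, 1)], [(177, 1)],
   [(23, 1), (178, 1), (179, 2), (181, 2)], [(23, 2), (178, 1), (179, 1), (180, 2)],
   [(23, 2), (178, 2), (179, 1), (180, 1), (181, 2)], [(178, 2), (179, 2), (180, 1), (181, 1)],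
   [(24, 2), (182, 1), (183, 2), (185, 2)], [(24, 1), (182, 1), (183, 1), (184, 2)],
   [(24, 1), (182, 2), (183, 1), (184, 1), (185, 2)], [(182, 2), (183, 2), (184, 1), (185, 1)],
   [(25, 1), (27, 1), (28, 2), (186, 2), (187, 2), (188, 1), (189, 1), (190, 1), (191, 2)],
   [(27, 2), (28, 1), (187, 1), (188, 1), (189, 2), (190, 2), (191, 1)],
   [(25, 1), (26, 2), (27, 2), (28, 1), (186, 1), (187, 1), (189, 2), (190, 1), (191, 1)],
   [(25, 1), (27, 2), (28, 1), (186, 2), (188, 2), (189, 2), (190, 2), (191, 1)],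
   [(25, 2), (26, 1), (27, 1), (28, 2), (188, 1), (190, 1), (191, 2)],
   [(25, 2), (26, 1), (27, 1), (28, 2), (186, 2), (188, 1), (189, 2), (191, 2)],
   [(29, 1), (192, 1), (193, 2), (195, 2)], [(29, 2), (192, 1), (193, 1), (194, 2)],
   [(29, 2), (192, 2), (193, 1), (194, 1), (195, 2)], [(192, 2), (193, 2), (194, 1), (195, 1)],
   [(30, 2), (32, 2), (33, 1), (196, 2), (197, 2), (198, 1), (199, 1), (200, 1), (201, 2)],
   [(32, 1), (33, 2), (197, 1), (198, 1), (199, 2), (200, 2), (201, 1)],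
   [(30, 2), (31, 1), (32, 1), (33, 2), (196, 1), (197, 1), (199, 2), (200, 1), (201, 1)],
   [(30, 2), (32, 1), (33, 2), (196, 2), (198, 2), (199, 2), (200, 2), (201, 1)],
   [(30, 1), (31, 2), (32, 2), (33, 1), (198, 1), (200, 1), (201, 2)],
   [(30, 1), (31, 2), (32, 2), (33, 1), (196, 2), (198, 1), (199, 2), (201, 2)],
   [(34, 1), (36, 1), (37, 2), (202, 2), (203, 2), (204, 1), (205, 1), (206, 1), (207, 2)],
   [(36, 2), (37, 1), (203, 1), (204, 1), (205, 2), (206, 2), (207, 1)],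
   [(34, 1), (35, 2), (36, 2), (37, 1), (202, 1), (203, 1), (205, 2), (206, 1), (207, 1)],
   [(34, 1), (36, 2), (37, 1), (202, 2), (204, 2), (205, 2), (206, 2), (207, 1)],
   [(34, 2), (35, 1), (36, 1), (37, 2), (204, 1), (206, 1), (207, 2)],
   [(34, 2), (35, 1), (36, 1), (37, 2), (202, 2), (204, 1), (205, 2), (207, 2)],
   [(39, 1), (40, 2), (208, 2), (209, 2), (210, 1)],
   [(38, 1), (39, 2), (40, 1), (41, 2), (42, 1), (209, 2), (210, 2), (211, 1)],
   [(39, 2), (40, 1), (41, 1), (42, 2), (208, 2), (209, 2), (210, 2), (211, 2)],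
   [(38, 1), (41, 1), (42, 2), (209, 2), (211, 2)],
   [(44, 2), (46, 2), (47, 1), (212, 2), (213, 2), (214, 1), (215, 1), (216, 1), (217, 2)],
   [(46, 1), (47, 2), (213, 1), (214, 1), (215, 2), (216, 2), (217, 1)],
   [(44, 2), (45, 1), (46, 1), (47, 2), (212, 1), (213, 1), (215, 2), (216, 1), (217, 1)],
   [(44, 2), (46, 1), (47, 2), (212, 2), (214, 2), (215, 2), (216, 2), (217, 1)],
   [(44, 1), (45, 2), (46, 2), (47, 1), (214, 1), (216, 1), (217, 2)],
   [(44, 1), (45, 2), (46, 2), (47, 1), (212, 2), (214, 1), (215, 2), (217, 2)],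
   [(49, 2), (50, 1), (218, 2), (219, 2), (220, 1)],
   [(48, 2), (49, 1), (50, 2), (51, 1), (52, 2), (219, 2), (220, 2), (221, 1)],
   [(49, 1), (50, 2), (51, 2), (52, 1), (218, 2), (219, 2), (220, 2), (221, 2)],
   [(48, 2), (51, 2), (52, 1), (219, 2), (221, 2)], [(55, 1), (56, 2), (222, 2), (223, 2), (224, 1)],
   [(54, 1), (55, 2), (56, 1), (57, 2), (58, 1), (223, 2), (224, 2), (225, 1)],
   [(55, 2), (56, 1), (57, 1), (58, 2), (222, 2), (223, 2), (224, 2), (225, 2)],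
   [(54, 1), (57, 1), (58, 2), (223, 2), (225, 2)], [(60, 2), (61, 1), (226, 2)],
   [(65, 2), (66, 1), (227, 2), (228, 2), (229, 1)],
   [(64, 2), (65, 1), (66, 2), (67, 1), (68, 2), (228, 2), (229, 2), (230, 1)],
   [(65, 1), (66, 2), (67, 2), (68, 1), (227, 2), (228, 2), (229, 2), (230, 2)],
   [(64, 2), (67, 2), (68, 1), (228, 2), (230, 2)], [(70, 1), (71, 2), (231, 2)], [(74, 2), (75, 1), (232, 2)],
   [(79, 1), (80, 2), (233, 2)], [(87, 2), (88, 1), (234, 2), (235, 2), (236, 1)],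
   [(86, 2), (87, 1), (88, 2), (89, 1), (90, 2), (235, 2), (236, 2), (237, 1)],
   [(87, 1), (88, 2), (89, 2), (90, 1), (234, 2), (235, 2), (236, 2), (237, 2)],
   [(86, 2), (89, 2), (90, 1), (235, 2), (237, 2)], [(92, 1), (93, 2), (238, 2)], [(96, 2), (97, 1), (239, 2)],
   [(101, 1), (102, 2), (240, 2)], [(107, 1), (108, 2), (241, 2)], [(113, 1), (114, 2), (242, 2)],
   [(118, 1), (119, 2), (243, 2)],
   [(0, 1), (2, 2), (4, 1), (5, 2), (7, 1), (8, 2), (9, 1), (122, 1), (123, 2), (125, 2), (126, 1), (128, 1), (244, 2), (245, 1), (247, 1)],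
   [(0, 2), (2, 1), (4, 2), (5, 1), (7, 1), (8, 1), (9, 2), (122, 1), (123, 2), (125, 1), (126, 2), (127, 2), (244, 2), (245, 2), (246, 1)],
   [(0, 2), (2, 1), (4, 2), (5, 1), (8, 1), (9, 2), (122, 2), (123, 1), (125, 1), (126, 2), (127, 1), (128, 1), (244, 1), (245, 2), (246, 2), (247, 1)],
   [(7, 1), (122, 2), (123, 1), (125, 2), (126, 1), (127, 1), (128, 2), (244, 1), (245, 1), (246, 2), (247, 2)]]

/-- columns of `y₀` -/
def tY : List (List (ℕ × ℕ)) :=
  [[(0, 1), (2, 1), (3, 1), (111, 1), (117, 2), (149, 2), (170, 2), (171, 1), (177, 2)],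
   [(2, 2), (100, 2), (105, 2), (111, 2), (112, 1), (117, 1), (143, 2), (149, 1), (150, 1), (155, 1), (170, 1), (171, 2), (177, 1)],
   [(2, 1), (3, 2), (111, 2), (112, 2), (117, 1), (143, 2), (149, 1), (150, 2), (155, 1)],
   [(1, 2), (3, 2), (100, 2), (105, 2), (112, 1), (143, 2), (150, 1), (155, 1), (170, 2), (171, 1), (177, 2)],
   [(2, 2), (3, 1), (4, 1), (5, 2), (6, 2), (111, 1), (112, 2), (117, 2), (122, 2), (123, 2), (125, 2), (126, 2), (127, 2), (131, 2), (132, 2), (143, 2), (149, 2), (150, 2), (155, 1), (170, 1), (171, 2), (177, 1)],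
   [(7, 2), (8, 1), (9, 1), (11, 2), (122, 2), (123, 2), (125, 1), (126, 1), (127, 1), (128, 2), (131, 1), (132, 1), (133, 1)],
   [(5, 2), (6, 2), (8, 2), (9, 2), (11, 1), (122, 2), (123, 2), (127, 1), (128, 2), (132, 1), (133, 1)],
   [(6, 2), (7, 1), (125, 1), (126, 1), (127, 2), (128, 2), (131, 1), (132, 2), (133, 1)],
   [(8, 1), (9, 1), (10, 1), (11, 1)], [(8, 1), (9, 2), (11, 1)], [(8, 2), (9, 2), (11, 1)],
   [(8, 2), (9, 2), (11, 2)], [], [], [], [], [], [], [], [], [], [], [], [], [], [], [], [], [], [], [], [],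
   [], [], [], [], [], [], [], [], [], [], [], [], [], [], [], [], [], [], [], [], [], [], [], [], [], [], [],
   [], [], [], [], [], [], [], [], [], [], [], [], [], [], [], [], [], [], [],
   [(1, 1), (3, 1), (78, 1), (83, 2), (84, 1), (100, 1), (105, 1), (111, 2), (112, 1), (117, 1), (149, 2), (150, 2)],
   [], [], [], [],
   [(0, 2), (1, 1), (2, 1), (3, 1), (78, 1), (85, 1), (100, 1), (105, 1), (143, 2), (155, 1), (170, 1), (171, 2), (177, 1)],
   [(2, 2), (84, 1), (85, 1), (112, 1), (143, 2), (150, 2), (155, 1)], [(83, 1), (111, 1), (117, 2), (149, 1)],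
   [], [], [], [], [], [], [], [], [], [], [], [], [], [],
   [(1, 2), (3, 1), (100, 1), (105, 1), (106, 1), (111, 2), (112, 1), (117, 1), (138, 1), (149, 1), (150, 1)],
   [], [], [], [], [(1, 2), (3, 2), (100, 1), (105, 2), (111, 2), (112, 1), (117, 2), (149, 1), (150, 1)],
   [(1, 2), (3, 2), (100, 2), (105, 2), (111, 1), (112, 2), (117, 2), (149, 1), (150, 1)], [], [], [], [],
   [(1, 2), (2, 2), (3, 2), (100, 1), (105, 1), (106, 1), (143, 2), (144, 1), (155, 2), (170, 1), (171, 2), (172, 1), (177, 2)],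
   [(2, 2), (112, 1), (138, 1), (143, 2), (144, 1), (150, 1), (155, 2)], [], [], [], [],
   [(1, 1), (2, 1), (3, 1), (100, 2), (105, 1), (143, 2), (155, 1), (170, 2), (171, 2), (177, 1)], [], [], [],
   [],
   [(5, 2), (6, 1), (122, 1), (123, 1), (124, 1), (125, 1), (126, 1), (127, 1), (129, 1), (131, 1), (132, 1)],
   [(5, 2), (6, 2), (122, 1), (123, 2), (125, 1), (126, 2), (127, 1), (131, 1), (132, 1)],
   [(5, 2), (6, 2), (122, 2), (123, 2), (125, 2), (126, 2), (127, 2), (131, 1), (132, 1)],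
   [(5, 1), (6, 1), (7, 1), (8, 2), (9, 2), (10, 2), (11, 2), (122, 2), (123, 2), (124, 2), (128, 1), (130, 1), (133, 1)],
   [(5, 1), (6, 1), (7, 1), (8, 2), (9, 1), (11, 2), (122, 2), (123, 1), (128, 2), (133, 1)],
   [(7, 2), (127, 1), (128, 2), (129, 1), (130, 2), (132, 1), (133, 2)], [(125, 1), (126, 2), (131, 1)],
   [(7, 1), (127, 2), (128, 1), (132, 1), (133, 2)], [(125, 2), (126, 2), (131, 1)],
   [(5, 2), (6, 2), (7, 2), (8, 1), (9, 1), (11, 1), (122, 1), (123, 1), (128, 2), (133, 2)],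
   [(7, 1), (127, 2), (128, 1), (132, 2), (133, 1)], [(125, 2), (126, 2), (131, 2)], [], [], [], [],
   [(2, 1), (112, 2), (143, 1), (150, 1), (155, 2)], [], [], [], [], [(111, 2), (117, 2), (149, 1)],
   [(111, 2), (117, 1), (149, 2)], [], [], [], [],
   [(1, 2), (2, 2), (3, 2), (100, 1), (105, 1), (143, 2), (155, 2), (170, 1), (171, 2), (177, 2)],
   [(2, 1), (112, 2), (143, 1), (150, 2), (155, 1)], [], [], [], [], [(111, 1), (117, 2), (149, 2)], [], [], [],
   [], [], [], [], [], [], [], [], [], [], [], [(170, 1), (171, 2), (172, 1), (177, 2)],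
   [(170, 2), (171, 2), (177, 1)], [(170, 2), (171, 1), (177, 2)], [], [], [], [],
   [(170, 1), (171, 2), (177, 2)], [], [], [], [], [], [], [], [], [], [], [], [], [], [], [], [], [], [], [],
   [], [], [], [], [], [], [], [], [], [], [], [], [], [], [], [], [], [], [], [], [], [], [], [], [], [], [],
   [], [], [], [], [], [], [], [], [], [], [], [], [], [], [], [], [], [], [], [],
   [(5, 2), (6, 2), (122, 2), (123, 2), (125, 2), (126, 2), (127, 2), (131, 1), (132, 1), (244, 1), (245, 1), (246, 1)],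
   [(0, 2), (2, 1), (4, 2), (5, 2), (6, 1), (8, 1), (9, 1), (11, 2), (122, 1), (123, 1), (128, 2), (133, 1), (244, 2), (247, 1)],
   [(7, 1), (127, 2), (128, 1), (132, 1), (133, 2), (246, 1), (247, 2)], [(125, 2), (126, 2), (131, 1), (245, 1)]]

/-- inverse of `x₀ - 1` -/
def tR : List (List (ℕ × ℕ)) :=
  [[], [], [], [], [], [], [], [], [], [], [], [], [(12, 1), (134, 2), (135, 1), (136, 2), (137, 2)],
   [(13, 1), (139, 2), (140, 1), (141, 2), (142, 2)], [(14, 1), (145, 2), (146, 1), (147, 2), (148, 2)],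
   [(15, 1), (151, 2), (152, 1), (153, 2), (154, 2)], [(16, 1), (156, 1), (157, 2), (158, 1), (159, 1)],
   [(17, 1), (160, 2), (161, 1), (162, 2), (163, 2)],
   [(18, 1), (19, 1), (20, 1), (21, 1), (164, 2), (165, 1), (166, 2), (168, 1), (169, 1)],
   [(18, 2), (20, 2), (21, 1), (164, 1), (167, 2), (168, 2)],
   [(18, 2), (19, 2), (21, 1), (164, 1), (167, 1), (169, 1)],
   [(18, 2), (19, 2), (20, 2), (21, 1), (165, 2), (166, 1), (167, 2), (168, 2), (169, 1)],
   [(22, 1), (173, 2), (174, 1), (175, 2), (176, 2)], [(23, 1), (178, 1), (179, 2), (180, 1), (181, 1)],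
   [(24, 1), (182, 2), (183, 1), (184, 2), (185, 2)],
   [(25, 1), (26, 1), (27, 1), (28, 1), (186, 2), (187, 1), (188, 2), (190, 1), (191, 1)],
   [(25, 2), (27, 2), (28, 1), (186, 1), (189, 2), (190, 2)],
   [(25, 2), (26, 2), (28, 1), (186, 1), (189, 1), (191, 1)],
   [(25, 2), (26, 2), (27, 2), (28, 1), (187, 2), (188, 1), (189, 2), (190, 2), (191, 1)],
   [(29, 1), (192, 1), (193, 2), (194, 1), (195, 1)],
   [(30, 1), (31, 1), (32, 1), (33, 1), (196, 1), (197, 2), (198, 1), (200, 2), (201, 2)],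
   [(30, 2), (32, 2), (33, 1), (196, 2), (199, 1), (200, 1)],
   [(30, 2), (31, 2), (33, 1), (196, 2), (199, 2), (201, 2)],
   [(30, 2), (31, 2), (32, 2), (33, 1), (197, 1), (198, 2), (199, 1), (200, 1), (201, 2)],
   [(34, 1), (35, 1), (36, 1), (37, 1), (202, 2), (203, 1), (204, 2), (206, 1), (207, 1)],
   [(34, 2), (36, 2), (37, 1), (202, 1), (205, 2), (206, 2)],
   [(34, 2), (35, 2), (37, 1), (202, 1), (205, 1), (207, 1)],
   [(34, 2), (35, 2), (36, 2), (37, 1), (203, 2), (204, 1), (205, 2), (206, 2), (207, 1)],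
   [(38, 2), (39, 1), (40, 1), (41, 2), (208, 1), (209, 1), (211, 1)],
   [(38, 1), (39, 2), (40, 1), (41, 2), (208, 2), (210, 2), (211, 1)],
   [(38, 2), (39, 1), (40, 2), (42, 1), (43, 1), (208, 2), (209, 1), (210, 2)],
   [(38, 1), (39, 1), (42, 2), (43, 2), (208, 1), (211, 2)],
   [(38, 1), (40, 1), (41, 1), (42, 2), (43, 1), (208, 2), (211, 1)],
   [(38, 1), (39, 1), (40, 2), (41, 1), (42, 1), (43, 2), (209, 1), (210, 1), (211, 2)],
   [(44, 1), (45, 1), (46, 1), (47, 1), (212, 1), (213, 2), (214, 1), (216, 2), (217, 2)],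
   [(44, 2), (46, 2), (47, 1), (212, 2), (215, 1), (216, 1)],
   [(44, 2), (45, 2), (47, 1), (212, 2), (215, 2), (217, 2)],
   [(44, 2), (45, 2), (46, 2), (47, 1), (213, 1), (214, 2), (215, 1), (216, 1), (217, 2)],
   [(48, 2), (49, 1), (50, 1), (51, 2), (218, 2), (219, 2), (221, 2)],
   [(48, 1), (49, 2), (50, 1), (51, 2), (218, 1), (220, 1), (221, 2)],
   [(48, 2), (49, 1), (50, 2), (52, 1), (53, 1), (218, 1), (219, 2), (220, 1)],
   [(48, 1), (49, 1), (52, 2), (53, 2), (218, 2), (221, 1)],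
   [(48, 1), (50, 1), (51, 1), (52, 2), (53, 1), (218, 1), (221, 2)],
   [(48, 1), (49, 1), (50, 2), (51, 1), (52, 1), (53, 2), (219, 2), (220, 2), (221, 1)],
   [(54, 2), (55, 1), (56, 1), (57, 2), (222, 1), (223, 1), (225, 1)],
   [(54, 1), (55, 2), (56, 1), (57, 2), (222, 2), (224, 2), (225, 1)],
   [(54, 2), (55, 1), (56, 2), (58, 1), (59, 1), (222, 2), (223, 1), (224, 2)],
   [(54, 1), (55, 1), (58, 2), (59, 2), (222, 1), (225, 2)],
   [(54, 1), (56, 1), (57, 1), (58, 2), (59, 1), (222, 2), (225, 1)],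
   [(54, 1), (55, 1), (56, 2), (57, 1), (58, 1), (59, 2), (223, 1), (224, 1), (225, 2)],
   [(60, 2), (61, 1), (62, 2), (226, 2)], [(60, 1), (61, 2), (62, 1), (63, 2), (226, 2)],
   [(60, 1), (61, 1), (62, 2), (63, 1), (226, 1)], [(60, 2), (61, 1), (62, 1), (63, 2), (226, 2)],
   [(64, 2), (65, 1), (66, 1), (67, 2), (227, 2), (228, 2), (230, 2)],
   [(64, 1), (65, 2), (66, 1), (67, 2), (227, 1), (229, 1), (230, 2)],
   [(64, 2), (65, 1), (66, 2), (68, 1), (69, 1), (227, 1), (228, 2), (229, 1)],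
   [(64, 1), (65, 1), (68, 2), (69, 2), (227, 2), (230, 1)],
   [(64, 1), (66, 1), (67, 1), (68, 2), (69, 1), (227, 1), (230, 2)],
   [(64, 1), (65, 1), (66, 2), (67, 1), (68, 1), (69, 2), (228, 2), (229, 2), (230, 1)],
   [(70, 2), (71, 1), (72, 2), (231, 1)], [(70, 1), (71, 2), (72, 1), (73, 2), (231, 1)],
   [(70, 1), (71, 1), (72, 2), (73, 1), (231, 2)], [(70, 2), (71, 1), (72, 1), (73, 2), (231, 1)],
   [(74, 2), (75, 1), (76, 2), (232, 2)], [(74, 1), (75, 2), (76, 1), (77, 2), (232, 2)],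
   [(74, 1), (75, 1), (76, 2), (77, 1), (232, 1)], [(74, 2), (75, 1), (76, 1), (77, 2), (232, 2)], [],
   [(79, 2), (80, 1), (81, 2), (233, 1)], [(79, 1), (80, 2), (81, 1), (82, 2), (233, 1)],
   [(79, 1), (80, 1), (81, 2), (82, 1), (233, 2)], [(79, 2), (80, 1), (81, 1), (82, 2), (233, 1)], [], [], [],
   [(86, 2), (87, 1), (88, 1), (89, 2), (234, 2), (235, 2), (237, 2)],
   [(86, 1), (87, 2), (88, 1), (89, 2), (234, 1), (236, 1), (237, 2)],
   [(86, 2), (87, 1), (88, 2), (90, 1), (91, 1), (234, 1), (235, 2), (236, 1)],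
   [(86, 1), (87, 1), (90, 2), (91, 2), (234, 2), (237, 1)],
   [(86, 1), (88, 1), (89, 1), (90, 2), (91, 1), (234, 1), (237, 2)],
   [(86, 1), (87, 1), (88, 2), (89, 1), (90, 1), (91, 2), (235, 2), (236, 2), (237, 1)],
   [(92, 2), (93, 1), (94, 2), (238, 1)], [(92, 1), (93, 2), (94, 1), (95, 2), (238, 1)],
   [(92, 1), (93, 1), (94, 2), (95, 1), (238, 2)], [(92, 2), (93, 1), (94, 1), (95, 2), (238, 1)],
   [(96, 2), (97, 1), (98, 2), (239, 2)], [(96, 1), (97, 2), (98, 1), (99, 2), (239, 2)],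
   [(96, 1), (97, 1), (98, 2), (99, 1), (239, 1)], [(96, 2), (97, 1), (98, 1), (99, 2), (239, 2)], [],
   [(101, 2), (102, 1), (103, 2), (240, 1)], [(101, 1), (102, 2), (103, 1), (104, 2), (240, 1)],
   [(101, 1), (102, 1), (103, 2), (104, 1), (240, 2)], [(101, 2), (102, 1), (103, 1), (104, 2), (240, 1)], [],
   [], [(107, 2), (108, 1), (109, 2), (241, 1)], [(107, 1), (108, 2), (109, 1), (110, 2), (241, 1)],
   [(107, 1), (108, 1), (109, 2), (110, 1), (241, 2)], [(107, 2), (108, 1), (109, 1), (110, 2), (241, 1)], [],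
   [], [(113, 2), (114, 1), (115, 2), (242, 1)], [(113, 1), (114, 2), (115, 1), (116, 2), (242, 1)],
   [(113, 1), (114, 1), (115, 2), (116, 1), (242, 2)], [(113, 2), (114, 1), (115, 1), (116, 2), (242, 1)], [],
   [(118, 2), (119, 1), (120, 2), (243, 1)], [(118, 1), (119, 2), (120, 1), (121, 2), (243, 1)],
   [(118, 1), (119, 1), (120, 2), (121, 1), (243, 2)], [(118, 2), (119, 1), (120, 1), (121, 2), (243, 1)], [],
   [], [], [], [], [], [], [], [], [], [], [], [(12, 1), (135, 2), (136, 1)],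
   [(12, 1), (134, 2), (136, 2), (137, 1)], [(12, 2), (134, 2), (135, 2), (137, 2)],
   [(12, 1), (134, 1), (135, 2), (136, 2)], [], [(13, 1), (140, 2), (141, 1)],
   [(13, 1), (139, 2), (141, 2), (142, 1)], [(13, 2), (139, 2), (140, 2), (142, 2)],
   [(13, 1), (139, 1), (140, 2), (141, 2)], [], [], [(14, 1), (146, 2), (147, 1)],
   [(14, 1), (145, 2), (147, 2), (148, 1)], [(14, 2), (145, 2), (146, 2), (148, 2)],
   [(14, 1), (145, 1), (146, 2), (147, 2)], [], [], [(15, 1), (152, 2), (153, 1)],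
   [(15, 1), (151, 2), (153, 2), (154, 1)], [(15, 2), (151, 2), (152, 2), (154, 2)],
   [(15, 1), (151, 1), (152, 2), (153, 2)], [], [(16, 2), (157, 2), (158, 1)],
   [(16, 2), (156, 2), (158, 2), (159, 1)], [(16, 1), (156, 2), (157, 2), (159, 2)],
   [(16, 2), (156, 1), (157, 2), (158, 2)], [(17, 1), (161, 2), (162, 1)],
   [(17, 1), (160, 2), (162, 2), (163, 1)], [(17, 2), (160, 2), (161, 2), (163, 2)],
   [(17, 1), (160, 1), (161, 2), (162, 2)], [(18, 2), (19, 2), (21, 2), (165, 2), (166, 1), (167, 2)],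
   [(18, 1), (20, 1), (21, 2), (164, 2), (166, 1), (167, 2)],
   [(18, 2), (21, 1), (164, 2), (165, 2), (166, 2), (168, 1), (169, 1)],
   [(18, 1), (19, 2), (20, 1), (164, 1), (165, 2), (168, 2), (169, 2)],
   [(18, 1), (21, 2), (164, 2), (166, 2), (167, 2), (169, 2)],
   [(19, 2), (20, 2), (21, 1), (164, 2), (165, 2), (166, 2), (167, 1), (168, 2)], [], [], [],
   [(22, 1), (174, 2), (175, 1)], [(22, 1), (173, 2), (175, 2), (176, 1)],
   [(22, 2), (173, 2), (174, 2), (176, 2)], [(22, 1), (173, 1), (174, 2), (175, 2)], [],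
   [(23, 2), (179, 2), (180, 1)], [(23, 2), (178, 2), (180, 2), (181, 1)],
   [(23, 1), (178, 2), (179, 2), (181, 2)], [(23, 2), (178, 1), (179, 2), (180, 2)],
   [(24, 1), (183, 2), (184, 1)], [(24, 1), (182, 2), (184, 2), (185, 1)],
   [(24, 2), (182, 2), (183, 2), (185, 2)], [(24, 1), (182, 1), (183, 2), (184, 2)],
   [(25, 2), (26, 2), (28, 2), (187, 2), (188, 1), (189, 2)],
   [(25, 1), (27, 1), (28, 2), (186, 2), (188, 1), (189, 2)],
   [(25, 2), (28, 1), (186, 2), (187, 2), (188, 2), (190, 1), (191, 1)],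
   [(25, 1), (26, 2), (27, 1), (186, 1), (187, 2), (190, 2), (191, 2)],
   [(25, 1), (28, 2), (186, 2), (188, 2), (189, 2), (191, 2)],
   [(26, 2), (27, 2), (28, 1), (186, 2), (187, 2), (188, 2), (189, 1), (190, 2)], [(29, 2), (193, 2), (194, 1)],
   [(29, 2), (192, 2), (194, 2), (195, 1)], [(29, 1), (192, 2), (193, 2), (195, 2)],
   [(29, 2), (192, 1), (193, 2), (194, 2)], [(30, 1), (31, 1), (33, 1), (197, 2), (198, 1), (199, 2)],
   [(30, 2), (32, 2), (33, 1), (196, 2), (198, 1), (199, 2)],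
   [(30, 1), (33, 2), (196, 2), (197, 2), (198, 2), (200, 1), (201, 1)],
   [(30, 2), (31, 1), (32, 2), (196, 1), (197, 2), (200, 2), (201, 2)],
   [(30, 2), (33, 1), (196, 2), (198, 2), (199, 2), (201, 2)],
   [(31, 1), (32, 1), (33, 2), (196, 2), (197, 2), (198, 2), (199, 1), (200, 2)],
   [(34, 2), (35, 2), (37, 2), (203, 2), (204, 1), (205, 2)],
   [(34, 1), (36, 1), (37, 2), (202, 2), (204, 1), (205, 2)],
   [(34, 2), (37, 1), (202, 2), (203, 2), (204, 2), (206, 1), (207, 1)],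
   [(34, 1), (35, 2), (36, 1), (202, 1), (203, 2), (206, 2), (207, 2)],
   [(34, 1), (37, 2), (202, 2), (204, 2), (205, 2), (207, 2)],
   [(35, 2), (36, 2), (37, 1), (202, 2), (203, 2), (204, 2), (205, 1), (206, 2)],
   [(38, 1), (39, 2), (41, 1), (42, 2), (43, 2), (208, 1), (209, 2), (210, 2), (211, 2)],
   [(38, 2), (40, 1), (42, 1), (208, 1), (209, 2), (210, 1), (211, 2)],
   [(38, 2), (40, 2), (43, 2), (208, 1), (209, 1), (210, 2), (211, 2)],
   [(39, 1), (40, 1), (41, 2), (42, 1), (43, 2), (208, 1), (209, 1), (210, 1), (211, 1)],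
   [(44, 1), (45, 1), (47, 1), (213, 2), (214, 1), (215, 2)],
   [(44, 2), (46, 2), (47, 1), (212, 2), (214, 1), (215, 2)],
   [(44, 1), (47, 2), (212, 2), (213, 2), (214, 2), (216, 1), (217, 1)],
   [(44, 2), (45, 1), (46, 2), (212, 1), (213, 2), (216, 2), (217, 2)],
   [(44, 2), (47, 1), (212, 2), (214, 2), (215, 2), (217, 2)],
   [(45, 1), (46, 1), (47, 2), (212, 2), (213, 2), (214, 2), (215, 1), (216, 2)],
   [(48, 2), (49, 1), (51, 2), (52, 1), (53, 1), (218, 1), (219, 2), (220, 2), (221, 2)],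
   [(48, 1), (50, 2), (52, 2), (218, 1), (219, 2), (220, 1), (221, 2)],
   [(48, 1), (50, 1), (53, 1), (218, 1), (219, 1), (220, 2), (221, 2)],
   [(49, 2), (50, 2), (51, 1), (52, 2), (53, 1), (218, 1), (219, 1), (220, 1), (221, 1)],
   [(54, 1), (55, 2), (57, 1), (58, 2), (59, 2), (222, 1), (223, 2), (224, 2), (225, 2)],
   [(54, 2), (56, 1), (58, 1), (222, 1), (223, 2), (224, 1), (225, 2)],
   [(54, 2), (56, 2), (59, 2), (222, 1), (223, 1), (224, 2), (225, 2)],
   [(55, 1), (56, 1), (57, 2), (58, 1), (59, 2), (222, 1), (223, 1), (224, 1), (225, 1)],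
   [(60, 1), (61, 2), (62, 1), (63, 1), (226, 1)],
   [(64, 2), (65, 1), (67, 2), (68, 1), (69, 1), (227, 1), (228, 2), (229, 2), (230, 2)],
   [(64, 1), (66, 2), (68, 2), (227, 1), (228, 2), (229, 1), (230, 2)],
   [(64, 1), (66, 1), (69, 1), (227, 1), (228, 1), (229, 2), (230, 2)],
   [(65, 2), (66, 2), (67, 1), (68, 2), (69, 1), (227, 1), (228, 1), (229, 1), (230, 1)],
   [(70, 2), (71, 1), (72, 2), (73, 2), (231, 1)], [(74, 1), (75, 2), (76, 1), (77, 1), (232, 1)],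
   [(79, 2), (80, 1), (81, 2), (82, 2), (233, 1)],
   [(86, 2), (87, 1), (89, 2), (90, 1), (91, 1), (234, 1), (235, 2), (236, 2), (237, 2)],
   [(86, 1), (88, 2), (90, 2), (234, 1), (235, 2), (236, 1), (237, 2)],
   [(86, 1), (88, 1), (91, 1), (234, 1), (235, 1), (236, 2), (237, 2)],
   [(87, 2), (88, 2), (89, 1), (90, 2), (91, 1), (234, 1), (235, 1), (236, 1), (237, 1)],
   [(92, 2), (93, 1), (94, 2), (95, 2), (238, 1)], [(96, 1), (97, 2), (98, 1), (99, 1), (239, 1)],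
   [(101, 2), (102, 1), (103, 2), (104, 2), (240, 1)], [(107, 2), (108, 1), (109, 2), (110, 2), (241, 1)],
   [(113, 2), (114, 1), (115, 2), (116, 2), (242, 1)], [(118, 2), (119, 1), (120, 2), (121, 2), (243, 1)], [],
   [], [], []]

/-- first part of the certificate -/
def t1 : List (List (ℕ × ℕ)) :=
  [[], [], [], [],
   [(5, 1), (7, 2), (9, 1), (10, 2), (11, 2), (123, 2), (124, 2), (125, 1), (126, 2), (128, 2), (130, 1), (131, 1), (132, 2)],
   [(0, 1), (2, 2), (4, 1), (5, 2), (6, 2), (9, 2), (10, 1), (122, 2), (123, 1), (125, 2), (126, 1), (127, 2), (129, 1), (131, 2), (132, 2), (133, 2)],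
   [(0, 2), (2, 1), (4, 2), (5, 2), (8, 2), (9, 2), (10, 1), (11, 2), (122, 2), (124, 1), (125, 1), (127, 2), (128, 2), (129, 1), (130, 2), (131, 1)],
   [(0, 1), (2, 2), (4, 1), (5, 2), (6, 1), (7, 1), (9, 2), (10, 1), (11, 1), (122, 2), (123, 2), (125, 2), (127, 1), (128, 1), (130, 1), (131, 1), (132, 2), (133, 1)],
   [], [(6, 2), (122, 1), (123, 1), (124, 1), (126, 2), (128, 2), (129, 1), (131, 2), (132, 2)], [], [], [], [],
   [], [], [], [], [], [], [], [], [], [], [], [], [], [], [], [], [], [], [], [], [], [], [], [], [], [], [],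
   [], [], [], [], [], [], [], [], [], [], [], [], [], [], [], [], [], [], [], [], [], [], [], [], [], [], [],
   [], [], [], [], [], [], [], [], [], [], [], [], [], [], [], [], [], [], [], [], [], [], [], [], [], [], [],
   [], [], [], [], [], [], [], [], [], [], [], [], [], [], [], [], [], [], [], [], [], [], [], [], [], [], [],
   [(0, 1), (2, 2), (4, 1), (5, 1), (7, 2), (122, 2), (124, 2), (126, 2), (127, 2), (129, 1), (130, 1), (133, 1)],
   [(6, 1), (7, 1), (8, 2), (9, 2), (11, 2), (122, 2), (123, 1), (125, 2), (126, 2), (127, 2), (129, 1), (131, 2), (132, 2), (133, 2)],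
   [(0, 1), (2, 2), (4, 1), (5, 2), (7, 2), (8, 2), (11, 2), (122, 1), (123, 1), (124, 2), (125, 2), (126, 1), (127, 1), (129, 2), (130, 1), (131, 2)],
   [(0, 1), (2, 2), (4, 1), (5, 2), (6, 1), (7, 1), (8, 2), (10, 1), (11, 1), (122, 2), (123, 1), (124, 1), (125, 1), (126, 1), (127, 2), (128, 1), (129, 1), (130, 2), (131, 1), (132, 2), (133, 2)],
   [],
   [(6, 2), (8, 2), (9, 2), (10, 1), (11, 1), (122, 1), (123, 2), (125, 1), (126, 1), (127, 2), (128, 2), (130, 2), (131, 2), (132, 2), (133, 2)],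
   [],
   [(0, 2), (2, 1), (4, 2), (5, 2), (8, 2), (10, 1), (11, 2), (122, 2), (124, 1), (125, 1), (127, 2), (128, 2), (129, 1), (130, 2), (131, 1)],
   [], [], [], [], [], [], [], [], [], [], [], [], [], [], [], [], [], [], [], [], [], [], [], [], [], [], [],
   [], [], [], [], [], [], [], [], [], [], [], [], [], [], [], [], [], [], [], [], [], [], [], [], [], [], [],
   [], [], [], [], [], [], [], [], [], [], [], [], [], [], [], [], [], [], [], [], [], [], [], [], [], [], [],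
   [], [], [], [], [], [], [], [], [], [], [], [], [], [], [], [], [], [], [], [], [], [], [], [], [], [], [],
   [], [], [], [], [], [], [], [(0, 1), (2, 2), (4, 1), (6, 2), (7, 1), (8, 1), (10, 1)], [], []]

/-- second part of the certificate -/
def t2 : List (List (ℕ × ℕ)) :=
  [[(0, 2), (1, 1), (2, 2), (3, 1), (83, 2), (85, 2), (112, 2), (138, 2), (144, 2), (155, 1)],
   [(0, 1), (1, 1), (105, 1), (143, 2)], [(0, 1), (1, 2), (2, 2), (3, 1), (150, 2)],
   [(0, 1), (1, 2), (2, 1), (3, 1), (150, 1), (155, 2)],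
   [(0, 1), (1, 1), (2, 1), (4, 2), (8, 2), (9, 1), (10, 1), (83, 1), (85, 1), (112, 1), (122, 1), (125, 1), (126, 1), (128, 2), (129, 1), (130, 1), (131, 1), (132, 1), (138, 1), (144, 1), (150, 2), (155, 2), (245, 2), (247, 2)],
   [], [],
   [(6, 1), (7, 1), (9, 1), (10, 2), (122, 2), (123, 1), (124, 1), (125, 1), (128, 1), (129, 2), (130, 1), (131, 2), (133, 2)],
   [], [],
   [(6, 1), (8, 2), (9, 2), (10, 1), (11, 1), (122, 2), (123, 2), (124, 2), (126, 1), (128, 1), (129, 2), (131, 1), (132, 1)],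
   [], [], [], [], [], [], [], [], [], [], [], [], [], [], [], [], [], [], [], [], [], [], [], [], [], [], [],
   [], [], [], [], [], [], [], [], [], [], [], [], [], [], [], [], [], [], [], [], [], [], [], [], [], [], [],
   [], [], [], [], [], [], [], [], [], [], [], [], [], [], [], [], [], [],
   [(84, 1), (85, 1), (112, 1), (138, 1), (144, 1), (150, 1)],
   [(0, 1), (1, 1), (2, 2), (78, 1), (84, 1), (85, 1), (150, 1), (155, 2)], [(84, 1), (150, 1)], [], [], [], [],
   [], [], [], [], [], [], [], [], [], [],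
   [(0, 1), (1, 1), (100, 2), (105, 1), (106, 2), (112, 2), (138, 1), (143, 2), (144, 2), (150, 1), (155, 2)],
   [], [], [], [],
   [(0, 2), (1, 1), (3, 2), (100, 1), (105, 1), (106, 1), (112, 1), (138, 2), (143, 2), (144, 1), (150, 1)],
   [(0, 1), (1, 1), (2, 2), (106, 2), (112, 2), (138, 2), (144, 2), (155, 2)], [], [], [], [],
   [(0, 2), (1, 1), (2, 1), (3, 2), (112, 1), (138, 1), (143, 1), (144, 1), (150, 2)], [], [], [], [], [],
   [(0, 2), (1, 1), (2, 1), (3, 2), (143, 1), (150, 2), (155, 1)], [], [], [], [], [], [],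
   [(5, 1), (7, 2), (8, 1), (10, 2), (11, 1), (123, 2), (125, 2), (126, 1), (130, 2), (132, 1), (133, 1)],
   [(5, 1), (7, 2), (122, 2), (124, 2), (126, 2), (127, 2), (129, 1), (130, 1), (131, 1), (132, 1), (133, 1)],
   [],
   [(8, 2), (9, 2), (10, 1), (11, 2), (123, 1), (124, 2), (125, 1), (127, 2), (128, 1), (129, 2), (130, 2), (132, 2)],
   [], [(0, 2), (2, 1), (4, 2), (5, 1), (6, 1), (7, 1), (8, 2), (9, 2), (10, 2), (11, 2), (126, 2), (129, 2)],
   [(0, 2), (2, 1), (4, 2), (5, 2), (6, 2), (7, 1), (8, 2), (122, 1), (123, 2), (124, 2), (125, 2), (126, 2), (127, 1), (129, 2)],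
   [(5, 2), (9, 2), (10, 1), (122, 1), (123, 1), (124, 2), (125, 2), (127, 1), (128, 1), (129, 2), (130, 1), (131, 1)],
   [], [], [], [], [], [], [(138, 2), (150, 1)], [], [], [], [], [(0, 2), (1, 1), (2, 1), (3, 2), (150, 2)],
   [(112, 1), (138, 1)], [], [], [], [], [(112, 1), (138, 1), (144, 1), (155, 1)], [], [], [], [], [], [], [],
   [], [], [], [], [], [], [], [], [], [], [], [], [],
   [(0, 2), (1, 2), (2, 2), (3, 1), (100, 1), (105, 2), (106, 1), (112, 1), (117, 1), (138, 2), (143, 2), (144, 1), (150, 1), (155, 1)],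
   [(0, 2), (1, 1), (3, 2), (100, 1), (105, 1), (106, 1), (112, 2), (117, 1), (144, 2), (149, 1), (150, 1), (155, 2)],
   [(0, 1), (2, 2), (3, 2), (106, 1), (111, 1), (143, 1), (144, 1), (149, 2), (150, 2)], [], [], [], [],
   [(0, 1), (2, 1), (105, 2), (112, 1), (138, 1), (143, 1), (144, 1), (149, 1), (155, 1)], [], [], [], [], [],
   [], [], [], [], [], [], [], [], [], [], [], [], [], [], [], [], [], [], [], [], [], [], [], [], [], [], [],
   [], [], [], [], [], [], [], [], [], [], [], [], [], [], [], [], [], [], [], [], [], [], [], [], [], [], [],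
   [], [], [], [], [], [], [], [],
   [(5, 2), (6, 1), (9, 2), (10, 1), (124, 1), (125, 2), (126, 1), (127, 1), (128, 2), (129, 1), (130, 1), (131, 2), (132, 2), (133, 2), (246, 2), (247, 1)],
   [(0, 2), (2, 1), (4, 2), (6, 1), (7, 1), (8, 2), (9, 2), (11, 2), (122, 2), (123, 1), (125, 2), (126, 2), (127, 2), (129, 1), (131, 2), (132, 1), (244, 1), (246, 1), (247, 2)],
   [(5, 2), (7, 1), (9, 1), (10, 1), (123, 2), (124, 1), (125, 2), (126, 2), (127, 1), (128, 2), (129, 1), (130, 1), (132, 2), (246, 2)]]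

/-- value of the certificate -/
def t3 : List (List (ℕ × ℕ)) :=
  [[(0, 1)], [(1, 1)], [(2, 1)], [(3, 1)], [(4, 1)], [(5, 1)], [(6, 1)], [(7, 1)], [(8, 1)], [(9, 1)],
   [(10, 1)], [(11, 1)], [], [], [], [], [], [], [], [], [], [], [], [], [], [], [], [], [], [], [], [], [], [],
   [], [], [], [], [], [], [], [], [], [], [], [], [], [], [], [], [], [], [], [], [], [], [], [], [], [], [],
   [], [], [], [], [], [], [], [], [], [], [], [], [], [], [], [], [], [(78, 1)], [], [], [], [], [(83, 1)],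
   [(84, 1)], [(85, 1)], [], [], [], [], [], [], [], [], [], [], [], [], [], [], [(100, 1)], [], [], [], [],
   [(105, 1)], [(106, 1)], [], [], [], [], [(111, 1)], [(112, 1)], [], [], [], [], [(117, 1)], [], [], [], [],
   [(122, 1)], [(123, 1)], [(124, 1)], [(125, 1)], [(126, 1)], [(127, 1)], [(128, 1)], [(129, 1)], [(130, 1)],
   [(131, 1)], [(132, 1)], [(133, 1)], [], [], [], [], [(138, 1)], [], [], [], [], [(143, 1)], [(144, 1)], [],
   [], [], [], [(149, 1)], [(150, 1)], [], [], [], [], [(155, 1)], [], [], [], [], [], [], [], [], [], [], [],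
   [], [], [], [(0, 1), (1, 2), (2, 1), (100, 2), (111, 1), (117, 2), (138, 2), (144, 1), (150, 1)],
   [(0, 1), (1, 2), (2, 2), (3, 1), (105, 1), (112, 2), (138, 2), (143, 2), (144, 2), (149, 2), (155, 2)],
   [(0, 1), (1, 2), (2, 1), (3, 2), (106, 2), (111, 2), (143, 2), (144, 2), (149, 1), (150, 1)], [], [], [], [],
   [(0, 1), (1, 1), (3, 2)], [], [], [], [], [], [], [], [], [], [], [], [], [], [], [], [], [], [], [], [], [],
   [], [], [], [], [], [], [], [], [], [], [], [], [], [], [], [], [], [], [], [], [], [], [], [], [], [], [],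
   [], [], [], [], [], [], [], [], [], [], [], [], [], [], [], [], [], [], [(244, 1)], [(245, 1)], [(246, 1)],
   [(247, 1)]]

/-- the vectors `b_1, ..., b_4` -/
def bl : List (List (ℕ × ℕ)) :=
  [[(0, 1), (1, 2), (2, 1), (3, 2), (106, 2), (111, 2), (143, 2), (144, 2), (149, 1), (150, 1), (172, 2)],
   [(0, 1), (2, 2), (100, 2), (106, 2), (117, 2), (138, 2), (143, 2), (149, 1), (150, 2), (170, 2), (172, 2), (177, 1)],
   [(0, 1), (1, 1), (2, 1), (3, 2), (100, 2), (105, 1), (106, 2), (112, 2), (117, 2), (138, 1), (143, 1), (144, 2), (150, 2), (155, 2), (170, 2), (171, 2), (172, 2), (177, 2)],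
   [(0, 1), (1, 1), (2, 2), (3, 1), (100, 2), (105, 2), (111, 1), (112, 1), (117, 2), (143, 1), (144, 2), (149, 1), (150, 1), (155, 1), (170, 2), (171, 1), (177, 2)]]

end Cfsg.Agent.H65.E8L.Dat
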